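import Cfsg.Agent.Lib.Helper6.C3l42.Data

/-!
# S5886 leaf gl42, part 3: the certificate checks (kernel `decide`)
-/

set_option autoImplicit false

namespace Cfsg.Agent.Lib.Helper6.C3lLeaf

/-- `x² = x + 1` on the sixteen bits -/
def isRootB (x : Q) : Bool := (x.mul x).eqv (x.add Q.one)

def allRows (f : Nat → Bool) : Bool := (List.range 16).all f

theorem allRows_spec {f : Nat → Bool} (h : allRows f = true) {a : Nat} (ha : a < 16) : f a = true := by
  unfold allRows at h
  rw [List.all_eq_true] at h
  exact h a (List.mem_range.2 ha)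

/-- every root is in `conjTable` -/
def pass1 : Bool :=
  allRows fun a => allRows fun b => allRows fun c => allRows fun d =>
    !isRootB ⟨a, b, c, d⟩ || conjTable.any fun t => decide (t.1 = ⟨a, b, c, d⟩)

set_option maxRecDepth 1000000 in
theorem pass1_ok : pass1 = true := by decide +kernel

/-- the conjugators -/
def pass2 : Bool :=
  conjTable.all fun t => decide (t.2.1.mul t.1 = TH0.mul t.2.1) && decide (t.2.1.mul t.2.2 = Q.one)

theorem pass2_ok : pass2 = true := by decide +kernel

/-- `n` (with inverse `ninv`) normalises the algebra of `TH0` -/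
def validN (n ninv : Q) : Bool :=
  (decide (n.mul TH0 = TH0.mul n) || decide (n.mul TH0 = TH0p.mul n)) && decide (n.mul ninv = Q.one)

/-- every root is `TH0`, `TH0p` or in `orbTable` -/
def pass3 : Bool :=
  conjTable.all fun t => decide (t.1 = TH0) || decide (t.1 = TH0p) ||
    orbTable.any fun o => decide (o.1 = t.1)

theorem pass3_ok : pass3 = true := by decide +kernel

/-- the orbit data -/
def pass3' : Bool :=
  orbTable.all fun o => validN o.2.1 o.2.2.1 && decide (o.2.1.mul (rep o.2.2.2) = o.1.mul o.2.1) &&
    decide (o.2.2.2 < 3)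

theorem pass3'_ok : pass3' = true := by decide +kernel

/-- the product `n₀ h n₁ h … n_m` -/
def evalW (h : Q) : List (Q × Q) → Q
  | [] => Q.one
  | [p] => p.1
  | p :: rest => p.1.mul (h.mul (evalW h rest))

/-- the code of `1 + E_{ij}` -/
def Tq (i j : Nat) : Q :=
  ⟨bif i == 0 then 1 ||| (1 <<< j) else 1, bif i == 1 then 2 ||| (1 <<< j) else 2,
    bif i == 2 then 4 ||| (1 <<< j) else 4, bif i == 3 then 8 ||| (1 <<< j) else 8⟩

def wordOf (k i j : Nat) : List (Q × Q) := wordTable.getD (16 * k + 4 * i + j) []

/-- the elements `hel k` and the words -/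
def pass4 : Bool :=
  (List.range 3).all fun k =>
    decide ((hel k).1.mul (hel k).2 = Q.one) &&
    (decide ((hel k).1.mul (rep k) = (rep k).mul (hel k).1) ||
      decide ((hel k).1.mul (rep k) = ((rep k).add Q.one).mul (hel k).1)) &&
    (List.range 4).all fun i => (List.range 4).all fun j =>
      i == j || ((wordOf k i j).all (fun p => validN p.1 p.2) && !(wordOf k i j).isEmpty &&
        decide (evalW (hel k).1 (wordOf k i j) = Tq i j))

theorem pass4_ok : pass4 = true := by decide +kernel

/-- `rep 0` does not normalise the algebra of `TH0` -/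
def pass5 : Bool :=
  !((rep 0).mul TH0).eqv (TH0.mul (rep 0)) && !((rep 0).mul TH0).eqv (TH0p.mul (rep 0)) &&
    decide ((rep 0).mul ((rep 0).add Q.one) = Q.one) && decide (TH0.add Q.one = TH0p) &&
    decide (TH0.mul TH0p = Q.one)

theorem pass5_ok : pass5 = true := by decide +kernel

end Cfsg.Agent.Lib.Helper6.C3lLeaf
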