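import Mathlib

/-!
# S5886 leaf gl42, part 1: bit codes for the 4 × 4 matrices over the field with two elements

A matrix is coded by its four rows, each a natural number `< 16` whose bit `j` is the entry in column `j`.
-/

set_option autoImplicit false

namespace Cfsg.Agent.Lib.Helper6.C3lLeaf

/-- four row codes -/
structure Q where
  a : Nat
  b : Nat
  c : Nat
  d : Nat
deriving DecidableEq

/-- bit `k` of `r` -/
def tb (r k : Nat) : Bool := r.testBit k

/-- `y` if bit `k` of `r` is set, else `0` -/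
def sel (r k y : Nat) : Nat := bif tb r k then y else 0

/-- the row vector `r` times the matrix `m` -/
def rowMul (r : Nat) (m : Q) : Nat := sel r 0 m.a ^^^ sel r 1 m.b ^^^ sel r 2 m.c ^^^ sel r 3 m.d

namespace Q

def mul (x y : Q) : Q := ⟨rowMul x.a y, rowMul x.b y, rowMul x.c y, rowMul x.d y⟩

def add (x y : Q) : Q := ⟨x.a ^^^ y.a, x.b ^^^ y.b, x.c ^^^ y.c, x.d ^^^ y.d⟩

def one : Q := ⟨1, 2, 4, 8⟩

def row (x : Q) (i : Fin 4) : Nat := ![x.a, x.b, x.c, x.d] i

end Q

/-- `Bool → ZMod 2` -/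
def β (b : Bool) : ZMod 2 := bif b then 1 else 0

theorem β_xor (x y : Bool) : β (x ^^ y) = β x + β y := by
  cases x <;> cases y <;> decide

theorem β_and (x y : Bool) : β (x && y) = β x * β y := by
  cases x <;> cases y <;> decide

theorem β_false : β false = 0 := rfl

theorem β_true : β true = 1 := rfl

theorem β_injective : Function.Injective β := by
  intro x y h
  cases x <;> cases y <;> first | rfl | (exact absurd h (by decide))

/-- the matrix coded by `x` -/
def Q.toMat (x : Q) : Matrix (Fin 4) (Fin 4) (ZMod 2) := Matrix.of fun i j => β (tb (x.row i) j)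

theorem Q.toMat_apply (x : Q) (i j : Fin 4) : x.toMat i j = β (tb (x.row i) j) := rfl

theorem tb_xor (r s k : Nat) : tb (r ^^^ s) k = (tb r k ^^ tb s k) := by
  unfold tb
  exact Nat.testBit_xor r s k

theorem tb_sel (r k y j : Nat) : tb (sel r k y) j = (tb r k && tb y j) := by
  unfold sel
  cases h : tb r k
  · simp [tb]
  · simp

theorem tb_rowMul (r : Nat) (m : Q) (j : Nat) :
    tb (rowMul r m) j = ((tb r 0 && tb m.a j) ^^ (tb r 1 && tb m.b j) ^^ (tb r 2 && tb m.c j) ^^
      (tb r 3 && tb m.d j)) := by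
  unfold rowMul
  rw [tb_xor, tb_xor, tb_xor, tb_sel, tb_sel, tb_sel, tb_sel]

theorem Q.mul_row (x y : Q) (i : Fin 4) : (x.mul y).row i = rowMul (x.row i) y := by
  fin_cases i <;> rfl

theorem Q.toMat_mul (x y : Q) : (x.mul y).toMat = x.toMat * y.toMat := by
  ext i j
  rw [Matrix.mul_apply, Fin.sum_univ_four, Q.toMat_apply, Q.mul_row, tb_rowMul, β_xor, β_xor, β_xor,
    β_and, β_and, β_and, β_and]
  rfl

theorem Q.add_row (x y : Q) (i : Fin 4) : (x.add y).row i = x.row i ^^^ y.row i := by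
  fin_cases i <;> rfl

theorem Q.toMat_add (x y : Q) : (x.add y).toMat = x.toMat + y.toMat := by
  ext i j
  rw [Matrix.add_apply, Q.toMat_apply, Q.add_row, tb_xor, β_xor]
  rfl

theorem Q.toMat_one : Q.one.toMat = 1 := by
  ext i j
  fin_cases i <;> fin_cases j <;> decide

/-- bitwise comparison of the sixteen entries -/
def Q.eqv (x y : Q) : Bool :=
  (List.finRange 4).all fun i => (List.finRange 4).all fun j => tb (x.row i) j == tb (y.row i) j

theorem Q.eqv_of_toMat_eq {x y : Q} (h : x.toMat = y.toMat) : x.eqv y = true := by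
  unfold Q.eqv
  rw [List.all_eq_true]
  intro i _
  rw [List.all_eq_true]
  intro j _
  have := congrFun (congrFun h i) j
  rw [Q.toMat_apply, Q.toMat_apply] at this
  rw [beq_iff_eq]
  exact β_injective this

/-- the row code of a vector -/
def rowCode (v : Fin 4 → ZMod 2) : Nat :=
  (v 0).val + 2 * (v 1).val + 4 * (v 2).val + 8 * (v 3).val

theorem rowCode_lt (v : Fin 4 → ZMod 2) : rowCode v < 16 := by
  unfold rowCode
  have h0 := ZMod.val_lt (v 0)
  have h1 := ZMod.val_lt (v 1)
  have h2 := ZMod.val_lt (v 2)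
  have h3 := ZMod.val_lt (v 3)
  omega

theorem tb_rowCode_aux : ∀ a b c d : ZMod 2, ∀ j : Fin 4,
    β (tb (a.val + 2 * b.val + 4 * c.val + 8 * d.val) j) = ![a, b, c, d] j := by
  decide

theorem tb_rowCode (v : Fin 4 → ZMod 2) (j : Fin 4) : β (tb (rowCode v) j) = v j := by
  unfold rowCode
  rw [tb_rowCode_aux]
  fin_cases j <;> rfl

/-- the code of a matrix -/
def codeOf (A : Matrix (Fin 4) (Fin 4) (ZMod 2)) : Q :=
  ⟨rowCode (A 0), rowCode (A 1), rowCode (A 2), rowCode (A 3)⟩

theorem codeOf_row (A : Matrix (Fin 4) (Fin 4) (ZMod 2)) (i : Fin 4) :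
    (codeOf A).row i = rowCode (A i) := by
  fin_cases i <;> rfl

theorem toMat_codeOf (A : Matrix (Fin 4) (Fin 4) (ZMod 2)) : (codeOf A).toMat = A := by
  ext i j
  rw [Q.toMat_apply, codeOf_row, tb_rowCode]

theorem codeOf_lt (A : Matrix (Fin 4) (Fin 4) (ZMod 2)) :
    (codeOf A).a < 16 ∧ (codeOf A).b < 16 ∧ (codeOf A).c < 16 ∧ (codeOf A).d < 16 :=
  ⟨rowCode_lt _, rowCode_lt _, rowCode_lt _, rowCode_lt _⟩

end Cfsg.Agent.Lib.Helper6.C3lLeaf
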