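import Cfsg.Agent.Lib.Helper6.C3l42.Check
import Cfsg.Prelude.Def_GeometricClasses
import Cfsg.Agent.Lib.Helper2.TIIIsf

/-!
# S5886 leaf gl42, part 4: the normaliser of `𝔽₄` is a coatom of `GL₄(𝔽₂)` (concrete form)
-/

set_option autoImplicit false
set_option linter.unusedSectionVars false
set_option linter.unusedVariables false

namespace Cfsg.Agent.Lib.Helper6.C3lLeaf
open Matrix Cfsg.Agent.Lib.Helper25.Tens Cfsg.Agent.Lib.Helper25.TensLeaves

abbrev M2 := Matrix (Fin 4) (Fin 4) (ZMod 2)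
abbrev G2 := GL (Fin 4) (ZMod 2)

section general

variable {R : Type*} [CommRing R] {n : Type*} [Fintype n] [DecidableEq n]

/-- `g` normalises the set `{θ, θ + 1}` by conjugation -/
def Nrm2 (θ g : Matrix n n R) : Prop := g * θ = θ * g ∨ g * θ = (θ + 1) * g

/-- transport of `Nrm2` along a conjugation -/
theorem Nrm2.conj {θ₁ θ₂ b : Matrix n n R} (a : (Matrix n n R)ˣ)
    (ha : (a : Matrix n n R) * θ₁ = θ₂ * a) (h : Nrm2 θ₁ b) :
    Nrm2 θ₂ ((a : Matrix n n R) * b * ((a⁻¹ : (Matrix n n R)ˣ) : Matrix n n R)) := by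
  have hinv : ((a⁻¹ : (Matrix n n R)ˣ) : Matrix n n R) * θ₂ = θ₁ * ((a⁻¹ : (Matrix n n R)ˣ) : Matrix n n R) := by
    have h1 : ((a⁻¹ : (Matrix n n R)ˣ) : Matrix n n R) * ((a : Matrix n n R) * θ₁) *
        ((a⁻¹ : (Matrix n n R)ˣ) : Matrix n n R)
        = ((a⁻¹ : (Matrix n n R)ˣ) : Matrix n n R) * (θ₂ * a) * ((a⁻¹ : (Matrix n n R)ˣ) : Matrix n n R) := by
      rw [ha]
    rw [← mul_assoc, Units.inv_mul, one_mul, mul_assoc, mul_assoc, Units.mul_inv, mul_one] at h1
    exact h1.symm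
  rcases h with h | h
  · left
    rw [mul_assoc, mul_assoc, hinv, ← mul_assoc b, h, ← mul_assoc, ← mul_assoc, ha]
    simp only [mul_assoc]
  · right
    rw [mul_assoc, mul_assoc, hinv, ← mul_assoc b, h, ← mul_assoc, ← mul_assoc, mul_add, mul_one, ha]
    simp only [add_mul, one_mul, mul_assoc]

end general

/-- the base root -/
def θ₀ : M2 := TH0.toMat

theorem toMat_TH0p : TH0p.toMat = θ₀ + 1 := by
  have h := pass5_ok
  unfold pass5 at h
  simp only [Bool.and_eq_true, decide_eq_true_eq] at h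
  rw [← h.1.2, Q.toMat_add, Q.toMat_one]
  rfl

/-- a unit from a code and the code of its inverse -/
theorem exists_unit {x y : Q} (h : x.mul y = Q.one) :
    ∃ u : G2, (u : M2) = x.toMat ∧ ((u⁻¹ : G2) : M2) = y.toMat := by
  have h1 : x.toMat * y.toMat = 1 := by rw [← Q.toMat_mul, h, Q.toMat_one]
  have h2 : y.toMat * x.toMat = 1 := mul_eq_one_comm.1 h1
  exact ⟨⟨x.toMat, y.toMat, h1, h2⟩, rfl, rfl⟩

/-- every root of `x² + x + 1` is in the table -/
theorem root_mem {A : M2} (hA : A * A = A + 1) : ∃ t ∈ conjTable, t.1.toMat = A := by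
  obtain ⟨ha, hb, hc, hd⟩ := codeOf_lt A
  have hroot : isRootB (codeOf A) = true := by
    unfold isRootB
    apply Q.eqv_of_toMat_eq
    rw [Q.toMat_mul, Q.toMat_add, Q.toMat_one, toMat_codeOf, hA]
  have h1 := allRows_spec (allRows_spec (allRows_spec (allRows_spec pass1_ok ha) hb) hc) hd
  have hcode : (⟨(codeOf A).a, (codeOf A).b, (codeOf A).c, (codeOf A).d⟩ : Q) = codeOf A := rfl
  rw [hcode, hroot] at h1
  simp only [Bool.not_true, Bool.false_or, List.any_eq_true, decide_eq_true_eq] at h1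
  obtain ⟨t, ht, hte⟩ := h1
  exact ⟨t, ht, by rw [hte, toMat_codeOf]⟩

/-- every root is conjugate to the base root -/
theorem root_conj {A : M2} (hA : A * A = A + 1) : ∃ P : G2, (P : M2) * A = θ₀ * (P : M2) := by
  obtain ⟨t, ht, hte⟩ := root_mem hA
  have h2 := pass2_ok
  unfold pass2 at h2
  rw [List.all_eq_true] at h2
  have h3 := h2 t ht
  simp only [Bool.and_eq_true, decide_eq_true_eq] at h3
  obtain ⟨P, hP, -⟩ := exists_unit h3.2
  refine ⟨P, ?_⟩
  rw [hP, ← hte, ← Q.toMat_mul, h3.1, Q.toMat_mul]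
  rfl

theorem nrm2_of_validN {n ninv : Q} (h : validN n ninv = true) : Nrm2 θ₀ n.toMat := by
  unfold validN at h
  simp only [Bool.and_eq_true, Bool.or_eq_true, decide_eq_true_eq] at h
  rcases h.1 with h1 | h1
  · left
    unfold θ₀
    rw [← Q.toMat_mul, h1, Q.toMat_mul]
  · right
    rw [← toMat_TH0p]
    unfold θ₀
    rw [← Q.toMat_mul, h1, Q.toMat_mul]

theorem mem_of_validN {M : Subgroup G2} (hN : ∀ g : G2, Nrm2 θ₀ (g : M2) → g ∈ M) {n ninv : Q}
    (h : validN n ninv = true) : ∃ u ∈ M, (u : M2) = n.toMat := by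
  have h' := h
  unfold validN at h'
  simp only [Bool.and_eq_true, Bool.or_eq_true, decide_eq_true_eq] at h'
  obtain ⟨u, hu, -⟩ := exists_unit h'.2
  refine ⟨u, hN u ?_, hu⟩
  rw [hu]
  exact nrm2_of_validN h

/-- evaluation of a word inside `M` -/
theorem word_mem {M : Subgroup G2} (hN : ∀ g : G2, Nrm2 θ₀ (g : M2) → g ∈ M) {t : G2} (ht : t ∈ M)
    {h : Q} (hth : (t : M2) = h.toMat) :
    ∀ w : List (Q × Q), w ≠ [] → (∀ p ∈ w, validN p.1 p.2 = true) →
      ∃ y ∈ M, (y : M2) = (evalW h w).toMat := by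
  intro w
  induction w with
  | nil => intro h0; exact absurd rfl h0
  | cons p rest ih =>
    intro _ hall
    obtain ⟨u, huM, hu⟩ := mem_of_validN hN (hall p (List.mem_cons_self))
    cases rest with
    | nil => exact ⟨u, huM, hu⟩
    | cons p' rest' =>
      obtain ⟨y, hyM, hy⟩ := ih (List.cons_ne_nil _ _) (fun q hq => hall q (List.mem_cons_of_mem _ hq))
      refine ⟨u * (t * y), M.mul_mem huM (M.mul_mem ht hyM), ?_⟩
      rw [Units.val_mul, Units.val_mul, hu, hth, hy]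
      show _ = (p.1.mul (h.mul (evalW h (p' :: rest')))).toMat
      rw [Q.toMat_mul, Q.toMat_mul]

theorem toMat_Tq : ∀ i j : Fin 4, i ≠ j →
    (Tq i.val j.val).toMat = 1 + Matrix.single i j (1 : ZMod 2) := by
  decide

theorem units_zmod2 (u : (ZMod 2)ˣ) : u = 1 := by
  revert u
  decide

/-- concrete maximality for the base root -/
theorem max0 (M : Subgroup G2) (hN : ∀ g : G2, Nrm2 θ₀ (g : M2) → g ∈ M) {g : G2} (hgM : g ∈ M)
    (hg : ¬ Nrm2 θ₀ (g : M2)) : M = ⊤ := by
  -- the conjugate root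
  obtain ⟨θ', hθ'⟩ : ∃ θ' : M2, θ' = (g : M2) * θ₀ * ((g⁻¹ : G2) : M2) := ⟨_, rfl⟩
  have hθ₀ : θ₀ * θ₀ = θ₀ + 1 := by
    have h := pass5_ok
    unfold pass5 at h
    simp only [Bool.and_eq_true, decide_eq_true_eq] at h
    have h1 : TH0.toMat * TH0p.toMat = 1 := by rw [← Q.toMat_mul, h.2, Q.toMat_one]
    rw [toMat_TH0p] at h1
    have h2 : θ₀ * (θ₀ + 1) = 1 := h1
    rw [mul_add, mul_one] at h2
    have h3 : θ₀ + θ₀ = 0 := by
      rw [← two_smul (ZMod 2) θ₀]
      have : (2 : ZMod 2) = 0 := by decide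
      rw [this, zero_smul]
    calc θ₀ * θ₀ = θ₀ * θ₀ + (θ₀ + θ₀) := by rw [h3, add_zero]
      _ = (θ₀ * θ₀ + θ₀) + θ₀ := by rw [add_assoc]
      _ = 1 + θ₀ := by rw [h2]
      _ = θ₀ + 1 := add_comm _ _
  have hgθ : θ' * (g : M2) = (g : M2) * θ₀ := by
    rw [hθ', mul_assoc, Units.inv_mul, mul_one]
  have hroot : θ' * θ' = θ' + 1 := by
    rw [hθ']
    have : (g : M2) * θ₀ * ((g⁻¹ : G2) : M2) * ((g : M2) * θ₀ * ((g⁻¹ : G2) : M2))
        = (g : M2) * (θ₀ * θ₀) * ((g⁻¹ : G2) : M2) := by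
      simp only [mul_assoc]
      rw [← mul_assoc ((g⁻¹ : G2) : M2) (g : M2), Units.inv_mul, one_mul]
    rw [this, hθ₀, mul_add, add_mul, mul_one, Units.mul_inv]
  obtain ⟨t, ht, hte⟩ := root_mem hroot
  have h3 := pass3_ok
  unfold pass3 at h3
  rw [List.all_eq_true] at h3
  have h3t := h3 t ht
  simp only [Bool.or_eq_true, decide_eq_true_eq, List.any_eq_true] at h3t
  rcases h3t with (h0 | h0) | ⟨o, ho, hox⟩
  · -- θ' = θ₀
    exfalso
    apply hg
    left
    rw [← hgθ, ← hte, h0]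
    rfl
  · exfalso
    apply hg
    right
    rw [← hgθ, ← hte, h0, toMat_TH0p]
  · -- the orbit certificate
    have h3' := pass3'_ok
    unfold pass3' at h3'
    rw [List.all_eq_true] at h3'
    have h3o := h3' o ho
    simp only [Bool.and_eq_true, decide_eq_true_eq] at h3o
    obtain ⟨⟨hval, hconj⟩, hk3⟩ := h3o
    obtain ⟨k, hk⟩ : ∃ k, k = o.2.2.2 := ⟨_, rfl⟩
    rw [← hk] at hconj hk3
    -- the certificate for `k`
    have h4 := pass4_ok
    unfold pass4 at h4
    rw [List.all_eq_true] at h4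
    have h4k := h4 k (List.mem_range.2 hk3)
    simp only [Bool.and_eq_true, Bool.or_eq_true, decide_eq_true_eq] at h4k
    obtain ⟨⟨hhinv, hhn⟩, hwords⟩ := h4k
    -- units
    obtain ⟨un, hunM, hun⟩ := mem_of_validN hN hval
    obtain ⟨uh, huh, -⟩ := exists_unit hhinv
    -- `n θ_k = θ' n`
    have hnθ : (un : M2) * (rep k).toMat = θ' * (un : M2) := by
      rw [hun, ← Q.toMat_mul, hconj, Q.toMat_mul, hox, hte]
    have hNk : Nrm2 (rep k).toMat (uh : M2) := by
      rw [huh]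
      rcases hhn with h | h
      · left
        rw [← Q.toMat_mul, h, Q.toMat_mul]
      · right
        rw [← Q.toMat_mul, h, Q.toMat_mul, Q.toMat_add, Q.toMat_one]
    have hN' := hNk.conj un hnθ
    have hginv : ((g⁻¹ : G2) : M2) * θ' = θ₀ * ((g⁻¹ : G2) : M2) := by
      rw [hθ', ← mul_assoc, ← mul_assoc, Units.inv_mul, one_mul]
    have hN'' := hN'.conj g⁻¹ hginv
    rw [inv_inv] at hN''
    have hwM : g⁻¹ * (un * uh * un⁻¹) * g ∈ M := by
      apply hN
      simpa only [Units.val_mul] using hN''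
    have huhM : uh ∈ M := by
      have : uh = un⁻¹ * (g * (g⁻¹ * (un * uh * un⁻¹) * g) * g⁻¹) * un := by group
      rw [this]
      exact M.mul_mem (M.mul_mem (M.inv_mem hunM) (M.mul_mem (M.mul_mem hgM hwM) (M.inv_mem hgM))) hunM
    -- all elementary transvections
    rw [eq_top_iff]
    intro x _
    have hSL : Cfsg.Geo.specialLinear (Fin 4) (ZMod 2) ≤ M := by
      apply Cfsg.Agent.Lib.Helper2.TensLeaf.sl_le_of_XT
      intro p q hpq c
      have hc : c = 0 ∨ c = 1 := by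
        revert c
        decide
      rcases hc with rfl | rfl
      · refine ⟨1, M.one_mem, ?_⟩
        rw [Matrix.single_zero, add_zero]
        rfl
      · rw [List.all_eq_true] at hwords
        have hw1 := hwords p.val (List.mem_range.2 p.isLt)
        rw [List.all_eq_true] at hw1
        have hw2 := hw1 q.val (List.mem_range.2 q.isLt)
        simp only [Bool.or_eq_true, beq_iff_eq, Bool.and_eq_true, List.all_eq_true,
          Bool.not_eq_true', List.isEmpty_eq_false_iff, decide_eq_true_eq] at hw2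
        rcases hw2 with hw2 | hw2
        · exact absurd (Fin.ext hw2) hpq
        · obtain ⟨⟨hvalid, hne⟩, heval⟩ := hw2
          obtain ⟨y, hyM, hy⟩ := word_mem hN huhM huh (wordOf k p.val q.val) hne
            (fun pr hpr => hvalid pr hpr)
          refine ⟨y, hyM, ?_⟩
          rw [hy, heval, toMat_Tq p q hpq]
    apply hSL
    unfold Cfsg.Geo.specialLinear
    rw [MonoidHom.mem_ker]
    exact units_zmod2 _

/-- properness for the base root -/
theorem exists_not_nrm0 : ∃ g : G2, ¬ Nrm2 θ₀ (g : M2) := by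
  have h := pass5_ok
  unfold pass5 at h
  simp only [Bool.and_eq_true, decide_eq_true_eq, Bool.not_eq_true'] at h
  obtain ⟨⟨⟨⟨h1, h2⟩, h3⟩, h4⟩, h5⟩ := h
  obtain ⟨u, hu, -⟩ := exists_unit h3
  refine ⟨u, ?_⟩
  rw [hu]
  rintro (hc | hc)
  · have : ((rep 0).mul TH0).eqv (TH0.mul (rep 0)) = true := by
      apply Q.eqv_of_toMat_eq
      rw [Q.toMat_mul, Q.toMat_mul]
      exact hc
    rw [h1] at this
    exact Bool.false_ne_true this
  · have : ((rep 0).mul TH0).eqv (TH0p.mul (rep 0)) = true := by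
      apply Q.eqv_of_toMat_eq
      rw [Q.toMat_mul, Q.toMat_mul, toMat_TH0p]
      exact hc
    rw [h2] at this
    exact Bool.false_ne_true this

end Cfsg.Agent.Lib.Helper6.C3lLeaf
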