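import Cfsg.Agent.Lib.Helper6.C3l42.Code

/-!
# S5886 leaf gl42, part 2: tables (roots of `x² + x + 1` in `M₄(𝔽₂)`, conjugators, orbit data, words)
Generated by a script; every table is checked in `Check.lean`.
-/

set_option autoImplicit false

namespace Cfsg.Agent.Lib.Helper6.C3lLeaf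

/-- the base root: block diagonal with blocks `[[0,1],[1,1]]` -/
def TH0 : Q := ⟨2, 3, 8, 12⟩

/-- `TH0 + 1` -/
def TH0p : Q := ⟨3, 1, 12, 4⟩

/-- `(x, P, P⁻¹)` with `P x = TH0 P`, for all 112 roots `x` -/
def conjTable : List (Q × Q × Q) := [
  (⟨9, 6, 2, 1⟩, ⟨4, 2, 8, 1⟩, ⟨8, 2, 1, 4⟩),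
  (⟨9, 14, 3, 1⟩, ⟨12, 2, 8, 1⟩, ⟨8, 2, 5, 4⟩),
  (⟨9, 4, 6, 1⟩, ⟨6, 2, 8, 1⟩, ⟨8, 2, 3, 4⟩),
  (⟨9, 13, 7, 1⟩, ⟨15, 2, 8, 1⟩, ⟨8, 2, 15, 4⟩),
  (⟨9, 15, 10, 1⟩, ⟨13, 2, 8, 1⟩, ⟨8, 2, 13, 4⟩),
  (⟨9, 7, 11, 1⟩, ⟨5, 2, 8, 1⟩, ⟨8, 2, 9, 4⟩),
  (⟨9, 5, 14, 1⟩, ⟨7, 2, 8, 1⟩, ⟨8, 2, 11, 4⟩),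
  (⟨9, 12, 15, 1⟩, ⟨14, 2, 8, 1⟩, ⟨8, 2, 7, 4⟩),
  (⟨5, 10, 1, 2⟩, ⟨8, 2, 4, 1⟩, ⟨8, 2, 4, 1⟩),
  (⟨13, 10, 3, 2⟩, ⟨8, 2, 12, 1⟩, ⟨8, 2, 5, 1⟩),
  (⟨4, 10, 5, 2⟩, ⟨8, 2, 5, 1⟩, ⟨8, 2, 12, 1⟩),
  (⟨14, 10, 7, 2⟩, ⟨8, 2, 15, 1⟩, ⟨8, 2, 15, 1⟩),
  (⟨15, 10, 9, 2⟩, ⟨8, 2, 14, 1⟩, ⟨8, 2, 7, 1⟩),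
  (⟨7, 10, 11, 2⟩, ⟨8, 2, 6, 1⟩, ⟨8, 2, 6, 1⟩),
  (⟨6, 10, 13, 2⟩, ⟨8, 2, 7, 1⟩, ⟨8, 2, 14, 1⟩),
  (⟨12, 10, 15, 2⟩, ⟨8, 2, 13, 1⟩, ⟨8, 2, 13, 1⟩),
  (⟨5, 14, 1, 3⟩, ⟨12, 2, 4, 1⟩, ⟨8, 2, 4, 5⟩),
  (⟨13, 6, 2, 3⟩, ⟨4, 2, 12, 1⟩, ⟨8, 2, 1, 5⟩),
  (⟨4, 15, 5, 3⟩, ⟨13, 2, 5, 1⟩, ⟨8, 2, 12, 5⟩),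
  (⟨15, 4, 6, 3⟩, ⟨6, 2, 14, 1⟩, ⟨8, 2, 3, 5⟩),
  (⟨14, 5, 9, 3⟩, ⟨7, 2, 15, 1⟩, ⟨8, 2, 11, 5⟩),
  (⟨6, 13, 10, 3⟩, ⟨15, 2, 7, 1⟩, ⟨8, 2, 14, 5⟩),
  (⟨7, 12, 13, 3⟩, ⟨14, 2, 6, 1⟩, ⟨8, 2, 6, 5⟩),
  (⟨12, 7, 14, 3⟩, ⟨5, 2, 13, 1⟩, ⟨8, 2, 9, 5⟩),
  (⟨3, 1, 12, 4⟩, ⟨8, 4, 2, 1⟩, ⟨8, 4, 2, 1⟩),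
  (⟨2, 3, 12, 4⟩, ⟨8, 4, 3, 1⟩, ⟨8, 12, 2, 1⟩),
  (⟨11, 5, 12, 4⟩, ⟨7, 2, 10, 1⟩, ⟨8, 2, 11, 6⟩),
  (⟨14, 7, 12, 4⟩, ⟨5, 2, 15, 1⟩, ⟨8, 2, 9, 7⟩),
  (⟨15, 9, 12, 4⟩, ⟨11, 2, 14, 1⟩, ⟨8, 2, 13, 11⟩),
  (⟨6, 11, 12, 4⟩, ⟨9, 2, 7, 1⟩, ⟨8, 2, 14, 9⟩),
  (⟨7, 13, 12, 4⟩, ⟨15, 2, 6, 1⟩, ⟨8, 2, 6, 13⟩),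
  (⟨10, 15, 12, 4⟩, ⟨13, 2, 11, 1⟩, ⟨8, 2, 7, 14⟩),
  (⟨15, 6, 2, 5⟩, ⟨4, 2, 14, 1⟩, ⟨8, 2, 1, 7⟩),
  (⟨14, 9, 3, 5⟩, ⟨11, 2, 15, 1⟩, ⟨8, 2, 5, 11⟩),
  (⟨11, 4, 6, 5⟩, ⟨6, 2, 10, 1⟩, ⟨8, 2, 3, 6⟩),
  (⟨10, 14, 7, 5⟩, ⟨12, 2, 11, 1⟩, ⟨8, 2, 15, 14⟩),
  (⟨7, 11, 10, 5⟩, ⟨9, 2, 6, 1⟩, ⟨8, 2, 6, 9⟩),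
  (⟨6, 12, 11, 5⟩, ⟨14, 2, 7, 1⟩, ⟨8, 2, 14, 13⟩),
  (⟨3, 1, 14, 5⟩, ⟨10, 4, 2, 1⟩, ⟨8, 4, 2, 5⟩),
  (⟨2, 3, 15, 5⟩, ⟨11, 4, 3, 1⟩, ⟨8, 12, 2, 5⟩),
  (⟨5, 15, 1, 6⟩, ⟨13, 2, 4, 1⟩, ⟨8, 2, 4, 13⟩),
  (⟨10, 13, 3, 6⟩, ⟨15, 2, 11, 1⟩, ⟨8, 2, 5, 14⟩),
  (⟨4, 11, 5, 6⟩, ⟨9, 2, 5, 1⟩, ⟨8, 2, 12, 9⟩),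
  (⟨13, 9, 7, 6⟩, ⟨11, 2, 12, 1⟩, ⟨8, 2, 15, 11⟩),
  (⟨11, 7, 9, 6⟩, ⟨5, 2, 10, 1⟩, ⟨8, 2, 9, 6⟩),
  (⟨12, 5, 11, 6⟩, ⟨7, 2, 13, 1⟩, ⟨8, 2, 11, 7⟩),
  (⟨2, 3, 13, 6⟩, ⟨9, 4, 3, 1⟩, ⟨8, 12, 2, 9⟩),
  (⟨3, 1, 15, 6⟩, ⟨11, 4, 2, 1⟩, ⟨8, 4, 2, 13⟩),
  (⟨5, 11, 1, 7⟩, ⟨9, 2, 4, 1⟩, ⟨8, 2, 4, 9⟩),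
  (⟨11, 6, 2, 7⟩, ⟨4, 2, 10, 1⟩, ⟨8, 2, 1, 6⟩),
  (⟨4, 14, 5, 7⟩, ⟨12, 2, 5, 1⟩, ⟨8, 2, 12, 13⟩),
  (⟨13, 4, 6, 7⟩, ⟨6, 2, 12, 1⟩, ⟨8, 2, 3, 7⟩),
  (⟨10, 12, 9, 7⟩, ⟨14, 2, 11, 1⟩, ⟨8, 2, 13, 14⟩),
  (⟨12, 9, 10, 7⟩, ⟨11, 2, 13, 1⟩, ⟨8, 2, 7, 11⟩),
  (⟨3, 1, 13, 7⟩, ⟨9, 4, 2, 1⟩, ⟨8, 4, 2, 9⟩),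
  (⟨2, 3, 14, 7⟩, ⟨10, 4, 3, 1⟩, ⟨8, 12, 2, 13⟩),
  (⟨8, 6, 2, 9⟩, ⟨4, 2, 9, 1⟩, ⟨8, 2, 1, 12⟩),
  (⟨8, 15, 3, 9⟩, ⟨13, 2, 9, 1⟩, ⟨8, 2, 5, 12⟩),
  (⟨8, 4, 6, 9⟩, ⟨6, 2, 9, 1⟩, ⟨8, 2, 3, 12⟩),
  (⟨8, 12, 7, 9⟩, ⟨14, 2, 9, 1⟩, ⟨8, 2, 15, 12⟩),
  (⟨8, 7, 10, 9⟩, ⟨5, 2, 9, 1⟩, ⟨8, 2, 9, 12⟩),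
  (⟨8, 14, 11, 9⟩, ⟨12, 2, 9, 1⟩, ⟨8, 2, 13, 12⟩),
  (⟨8, 13, 14, 9⟩, ⟨15, 2, 9, 1⟩, ⟨8, 2, 7, 12⟩),
  (⟨8, 5, 15, 9⟩, ⟨7, 2, 9, 1⟩, ⟨8, 2, 11, 12⟩),
  (⟨5, 8, 1, 10⟩, ⟨10, 2, 4, 1⟩, ⟨8, 2, 4, 3⟩),
  (⟨15, 8, 3, 10⟩, ⟨10, 2, 14, 1⟩, ⟨8, 2, 5, 3⟩),
  (⟨4, 8, 5, 10⟩, ⟨10, 2, 5, 1⟩, ⟨8, 2, 12, 3⟩),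
  (⟨12, 8, 7, 10⟩, ⟨10, 2, 13, 1⟩, ⟨8, 2, 15, 3⟩),
  (⟨7, 8, 9, 10⟩, ⟨10, 2, 6, 1⟩, ⟨8, 2, 6, 3⟩),
  (⟨13, 8, 11, 10⟩, ⟨10, 2, 12, 1⟩, ⟨8, 2, 7, 3⟩),
  (⟨14, 8, 13, 10⟩, ⟨10, 2, 15, 1⟩, ⟨8, 2, 13, 3⟩),
  (⟨6, 8, 15, 10⟩, ⟨10, 2, 7, 1⟩, ⟨8, 2, 14, 3⟩),
  (⟨5, 13, 1, 11⟩, ⟨15, 2, 4, 1⟩, ⟨8, 2, 4, 15⟩),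
  (⟨14, 6, 2, 11⟩, ⟨4, 2, 15, 1⟩, ⟨8, 2, 1, 15⟩),
  (⟨4, 12, 5, 11⟩, ⟨14, 2, 5, 1⟩, ⟨8, 2, 12, 15⟩),
  (⟨12, 4, 6, 11⟩, ⟨6, 2, 13, 1⟩, ⟨8, 2, 3, 15⟩),
  (⟨6, 14, 9, 11⟩, ⟨12, 2, 7, 1⟩, ⟨8, 2, 14, 15⟩),
  (⟨13, 5, 10, 11⟩, ⟨7, 2, 12, 1⟩, ⟨8, 2, 11, 15⟩),
  (⟨15, 7, 13, 11⟩, ⟨5, 2, 14, 1⟩, ⟨8, 2, 9, 15⟩),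
  (⟨7, 15, 14, 11⟩, ⟨13, 2, 6, 1⟩, ⟨8, 2, 6, 15⟩),
  (⟨3, 1, 8, 12⟩, ⟨12, 4, 2, 1⟩, ⟨8, 4, 2, 3⟩),
  (⟨2, 3, 8, 12⟩, ⟨12, 4, 3, 1⟩, ⟨8, 12, 2, 3⟩),
  (⟨15, 5, 8, 12⟩, ⟨7, 2, 14, 1⟩, ⟨8, 2, 11, 13⟩),
  (⟨10, 7, 8, 12⟩, ⟨5, 2, 11, 1⟩, ⟨8, 2, 9, 14⟩),
  (⟨7, 9, 8, 12⟩, ⟨11, 2, 6, 1⟩, ⟨8, 2, 6, 11⟩),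
  (⟨14, 11, 8, 12⟩, ⟨9, 2, 15, 1⟩, ⟨8, 2, 7, 9⟩),
  (⟨11, 13, 8, 12⟩, ⟨15, 2, 10, 1⟩, ⟨8, 2, 13, 6⟩),
  (⟨6, 15, 8, 12⟩, ⟨13, 2, 7, 1⟩, ⟨8, 2, 14, 7⟩),
  (⟨10, 6, 2, 13⟩, ⟨4, 2, 11, 1⟩, ⟨8, 2, 1, 14⟩),
  (⟨11, 12, 3, 13⟩, ⟨14, 2, 10, 1⟩, ⟨8, 2, 5, 6⟩),
  (⟨14, 4, 6, 13⟩, ⟨6, 2, 15, 1⟩, ⟨8, 2, 3, 13⟩),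
  (⟨15, 11, 7, 13⟩, ⟨9, 2, 14, 1⟩, ⟨8, 2, 15, 9⟩),
  (⟨2, 3, 10, 13⟩, ⟨14, 4, 3, 1⟩, ⟨8, 12, 2, 15⟩),
  (⟨3, 1, 11, 13⟩, ⟨15, 4, 2, 1⟩, ⟨8, 4, 2, 15⟩),
  (⟨6, 9, 14, 13⟩, ⟨11, 2, 7, 1⟩, ⟨8, 2, 14, 11⟩),
  (⟨7, 14, 15, 13⟩, ⟨12, 2, 6, 1⟩, ⟨8, 2, 6, 7⟩),
  (⟨5, 9, 1, 14⟩, ⟨11, 2, 4, 1⟩, ⟨8, 2, 4, 11⟩),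
  (⟨12, 11, 3, 14⟩, ⟨9, 2, 13, 1⟩, ⟨8, 2, 5, 9⟩),
  (⟨4, 13, 5, 14⟩, ⟨15, 2, 5, 1⟩, ⟨8, 2, 12, 7⟩),
  (⟨11, 15, 7, 14⟩, ⟨13, 2, 10, 1⟩, ⟨8, 2, 15, 6⟩),
  (⟨3, 1, 9, 14⟩, ⟨13, 4, 2, 1⟩, ⟨8, 4, 2, 11⟩),
  (⟨2, 3, 11, 14⟩, ⟨15, 4, 3, 1⟩, ⟨8, 12, 2, 7⟩),
  (⟨10, 5, 13, 14⟩, ⟨7, 2, 11, 1⟩, ⟨8, 2, 11, 14⟩),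
  (⟨13, 7, 15, 14⟩, ⟨5, 2, 12, 1⟩, ⟨8, 2, 9, 13⟩),
  (⟨5, 12, 1, 15⟩, ⟨14, 2, 4, 1⟩, ⟨8, 2, 4, 7⟩),
  (⟨12, 6, 2, 15⟩, ⟨4, 2, 13, 1⟩, ⟨8, 2, 1, 13⟩),
  (⟨4, 9, 5, 15⟩, ⟨11, 2, 5, 1⟩, ⟨8, 2, 12, 11⟩),
  (⟨10, 4, 6, 15⟩, ⟨6, 2, 11, 1⟩, ⟨8, 2, 3, 14⟩),
  (⟨2, 3, 9, 15⟩, ⟨13, 4, 3, 1⟩, ⟨8, 12, 2, 11⟩),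
  (⟨3, 1, 10, 15⟩, ⟨14, 4, 2, 1⟩, ⟨8, 4, 2, 7⟩),
  (⟨11, 14, 13, 15⟩, ⟨12, 2, 10, 1⟩, ⟨8, 2, 7, 6⟩),
  (⟨13, 11, 14, 15⟩, ⟨9, 2, 12, 1⟩, ⟨8, 2, 13, 9⟩)]

/-- `(x, n, n⁻¹, k)` with `n` in the normaliser of `TH0` and `n (rep k) = x n`, for the 110 roots outside `{TH0, TH0p}` -/
def orbTable : List (Q × Q × Q × Nat) := [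
  (⟨9, 6, 2, 1⟩, ⟨2, 1, 8, 4⟩, ⟨2, 1, 8, 4⟩, 0),
  (⟨9, 14, 3, 1⟩, ⟨9, 7, 2, 1⟩, ⟨8, 4, 14, 9⟩, 1),
  (⟨9, 4, 6, 1⟩, ⟨9, 14, 3, 1⟩, ⟨8, 12, 7, 9⟩, 2),
  (⟨9, 13, 7, 1⟩, ⟨11, 6, 10, 5⟩, ⟨5, 15, 13, 11⟩, 0),
  (⟨9, 15, 10, 1⟩, ⟨9, 7, 2, 1⟩, ⟨8, 4, 14, 9⟩, 0),
  (⟨9, 7, 11, 1⟩, ⟨4, 12, 11, 6⟩, ⟨14, 9, 1, 3⟩, 0),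
  (⟨9, 5, 14, 1⟩, ⟨9, 7, 2, 1⟩, ⟨8, 4, 14, 9⟩, 2),
  (⟨9, 12, 15, 1⟩, ⟨11, 13, 15, 5⟩, ⟨13, 6, 5, 10⟩, 0),
  (⟨5, 10, 1, 2⟩, ⟨14, 9, 2, 1⟩, ⟨8, 4, 15, 10⟩, 1),
  (⟨13, 10, 3, 2⟩, ⟨3, 2, 8, 4⟩, ⟨3, 2, 8, 4⟩, 0),
  (⟨4, 10, 5, 2⟩, ⟨13, 11, 10, 5⟩, ⟨6, 13, 14, 9⟩, 0),
  (⟨14, 10, 7, 2⟩, ⟨7, 9, 3, 1⟩, ⟨8, 12, 5, 10⟩, 2),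
  (⟨15, 10, 9, 2⟩, ⟨8, 4, 11, 6⟩, ⟨15, 10, 2, 1⟩, 0),
  (⟨7, 10, 11, 2⟩, ⟨14, 9, 2, 1⟩, ⟨8, 4, 15, 10⟩, 0),
  (⟨6, 10, 13, 2⟩, ⟨6, 11, 15, 5⟩, ⟨14, 7, 6, 11⟩, 0),
  (⟨12, 10, 15, 2⟩, ⟨14, 9, 2, 1⟩, ⟨8, 4, 15, 10⟩, 2),
  (⟨5, 14, 1, 3⟩, ⟨1, 3, 8, 4⟩, ⟨1, 3, 8, 4⟩, 0),
  (⟨13, 6, 2, 3⟩, ⟨7, 14, 2, 1⟩, ⟨8, 4, 13, 11⟩, 1),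
  (⟨4, 15, 5, 3⟩, ⟨14, 7, 3, 1⟩, ⟨8, 12, 6, 11⟩, 2),
  (⟨15, 4, 6, 3⟩, ⟨6, 13, 10, 5⟩, ⟨7, 14, 15, 10⟩, 0),
  (⟨14, 5, 9, 3⟩, ⟨7, 14, 2, 1⟩, ⟨8, 4, 13, 11⟩, 0),
  (⟨6, 13, 10, 3⟩, ⟨12, 8, 11, 6⟩, ⟨13, 11, 3, 2⟩, 0),
  (⟨7, 12, 13, 3⟩, ⟨7, 14, 2, 1⟩, ⟨8, 4, 13, 11⟩, 2),
  (⟨12, 7, 14, 3⟩, ⟨13, 6, 15, 5⟩, ⟨15, 5, 7, 9⟩, 0),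
  (⟨2, 3, 12, 4⟩, ⟨11, 6, 10, 5⟩, ⟨5, 15, 13, 11⟩, 1),
  (⟨11, 5, 12, 4⟩, ⟨2, 3, 15, 5⟩, ⟨3, 1, 11, 13⟩, 2),
  (⟨14, 7, 12, 4⟩, ⟨2, 1, 10, 5⟩, ⟨2, 1, 10, 5⟩, 1),
  (⟨15, 9, 12, 4⟩, ⟨1, 2, 15, 5⟩, ⟨1, 2, 9, 14⟩, 2),
  (⟨6, 11, 12, 4⟩, ⟨1, 3, 10, 5⟩, ⟨1, 3, 9, 7⟩, 1),
  (⟨7, 13, 12, 4⟩, ⟨3, 1, 15, 5⟩, ⟨2, 3, 10, 15⟩, 2),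
  (⟨10, 15, 12, 4⟩, ⟨3, 2, 10, 5⟩, ⟨3, 2, 11, 6⟩, 1),
  (⟨15, 6, 2, 5⟩, ⟨11, 6, 2, 1⟩, ⟨8, 4, 6, 13⟩, 0),
  (⟨14, 9, 3, 5⟩, ⟨4, 8, 15, 5⟩, ⟨9, 14, 1, 2⟩, 0),
  (⟨11, 4, 6, 5⟩, ⟨11, 6, 2, 1⟩, ⟨8, 4, 6, 13⟩, 2),
  (⟨10, 14, 7, 5⟩, ⟨15, 10, 11, 6⟩, ⟨6, 13, 5, 15⟩, 0),
  (⟨7, 11, 10, 5⟩, ⟨10, 5, 8, 4⟩, ⟨10, 5, 8, 4⟩, 0),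
  (⟨6, 12, 11, 5⟩, ⟨1, 3, 10, 5⟩, ⟨1, 3, 9, 7⟩, 0),
  (⟨3, 1, 14, 5⟩, ⟨10, 15, 3, 1⟩, ⟨8, 12, 11, 13⟩, 2),
  (⟨2, 3, 15, 5⟩, ⟨11, 6, 2, 1⟩, ⟨8, 4, 6, 13⟩, 1),
  (⟨5, 15, 1, 6⟩, ⟨12, 4, 15, 5⟩, ⟨10, 15, 2, 3⟩, 0),
  (⟨10, 13, 3, 6⟩, ⟨13, 11, 2, 1⟩, ⟨8, 4, 7, 14⟩, 0),
  (⟨4, 11, 5, 6⟩, ⟨5, 15, 11, 6⟩, ⟨7, 14, 6, 13⟩, 0),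
  (⟨13, 9, 7, 6⟩, ⟨13, 11, 2, 1⟩, ⟨8, 4, 7, 14⟩, 2),
  (⟨11, 7, 9, 6⟩, ⟨2, 1, 10, 5⟩, ⟨2, 1, 10, 5⟩, 0),
  (⟨12, 5, 11, 6⟩, ⟨15, 10, 8, 4⟩, ⟨11, 6, 8, 4⟩, 0),
  (⟨2, 3, 13, 6⟩, ⟨13, 11, 2, 1⟩, ⟨8, 4, 7, 14⟩, 1),
  (⟨3, 1, 15, 6⟩, ⟨5, 10, 3, 1⟩, ⟨8, 12, 9, 14⟩, 2),
  (⟨5, 11, 1, 7⟩, ⟨6, 13, 2, 1⟩, ⟨8, 4, 5, 15⟩, 0),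
  (⟨11, 6, 2, 7⟩, ⟨8, 12, 15, 5⟩, ⟨11, 13, 3, 1⟩, 0),
  (⟨4, 14, 5, 7⟩, ⟨6, 13, 2, 1⟩, ⟨8, 4, 5, 15⟩, 2),
  (⟨13, 4, 6, 7⟩, ⟨10, 5, 11, 6⟩, ⟨5, 15, 7, 14⟩, 0),
  (⟨10, 12, 9, 7⟩, ⟨5, 15, 8, 4⟩, ⟨9, 7, 8, 4⟩, 0),
  (⟨12, 9, 10, 7⟩, ⟨3, 2, 10, 5⟩, ⟨3, 2, 11, 6⟩, 0),
  (⟨3, 1, 13, 7⟩, ⟨15, 5, 3, 1⟩, ⟨8, 12, 10, 15⟩, 2),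
  (⟨2, 3, 14, 7⟩, ⟨6, 13, 2, 1⟩, ⟨8, 4, 5, 15⟩, 1),
  (⟨8, 6, 2, 9⟩, ⟨8, 4, 2, 1⟩, ⟨8, 4, 2, 1⟩, 2),
  (⟨8, 15, 3, 9⟩, ⟨14, 9, 10, 5⟩, ⟨13, 11, 5, 15⟩, 0),
  (⟨8, 4, 6, 9⟩, ⟨8, 4, 2, 1⟩, ⟨8, 4, 2, 1⟩, 0),
  (⟨8, 12, 7, 9⟩, ⟨8, 4, 2, 1⟩, ⟨8, 4, 2, 1⟩, 1),
  (⟨8, 7, 10, 9⟩, ⟨8, 12, 3, 1⟩, ⟨8, 12, 3, 1⟩, 2),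
  (⟨8, 14, 11, 9⟩, ⟨14, 7, 15, 5⟩, ⟨5, 10, 13, 6⟩, 0),
  (⟨8, 13, 14, 9⟩, ⟨6, 13, 8, 4⟩, ⟨14, 9, 8, 4⟩, 0),
  (⟨8, 5, 15, 9⟩, ⟨2, 1, 11, 6⟩, ⟨2, 1, 9, 7⟩, 0),
  (⟨5, 8, 1, 10⟩, ⟨7, 14, 10, 5⟩, ⟨14, 9, 6, 13⟩, 0),
  (⟨15, 8, 3, 10⟩, ⟨12, 8, 2, 1⟩, ⟨8, 4, 3, 2⟩, 2),
  (⟨4, 8, 5, 10⟩, ⟨12, 8, 2, 1⟩, ⟨8, 4, 3, 2⟩, 1),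
  (⟨12, 8, 7, 10⟩, ⟨12, 8, 2, 1⟩, ⟨8, 4, 3, 2⟩, 0),
  (⟨7, 8, 9, 10⟩, ⟨9, 14, 15, 5⟩, ⟨6, 11, 14, 7⟩, 0),
  (⟨13, 8, 11, 10⟩, ⟨4, 8, 3, 1⟩, ⟨8, 12, 1, 2⟩, 2),
  (⟨14, 8, 13, 10⟩, ⟨3, 2, 11, 6⟩, ⟨3, 2, 10, 5⟩, 0),
  (⟨6, 8, 15, 10⟩, ⟨11, 6, 8, 4⟩, ⟨15, 10, 8, 4⟩, 0),
  (⟨5, 13, 1, 11⟩, ⟨4, 12, 2, 1⟩, ⟨8, 4, 1, 3⟩, 2),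
  (⟨14, 6, 2, 11⟩, ⟨9, 7, 10, 5⟩, ⟨15, 10, 7, 14⟩, 0),
  (⟨4, 12, 5, 11⟩, ⟨4, 12, 2, 1⟩, ⟨8, 4, 1, 3⟩, 0),
  (⟨12, 4, 6, 11⟩, ⟨4, 12, 2, 1⟩, ⟨8, 4, 1, 3⟩, 1),
  (⟨6, 14, 9, 11⟩, ⟨12, 4, 3, 1⟩, ⟨8, 12, 2, 3⟩, 2),
  (⟨13, 5, 10, 11⟩, ⟨7, 9, 15, 5⟩, ⟨7, 9, 15, 5⟩, 0),
  (⟨15, 7, 13, 11⟩, ⟨13, 11, 8, 4⟩, ⟨13, 11, 8, 4⟩, 0),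
  (⟨7, 15, 14, 11⟩, ⟨1, 3, 11, 6⟩, ⟨1, 3, 11, 6⟩, 0),
  (⟨3, 1, 8, 12⟩, ⟨13, 6, 15, 5⟩, ⟨15, 5, 7, 9⟩, 1),
  (⟨15, 5, 8, 12⟩, ⟨1, 2, 15, 5⟩, ⟨1, 2, 9, 14⟩, 1),
  (⟨10, 7, 8, 12⟩, ⟨2, 1, 10, 5⟩, ⟨2, 1, 10, 5⟩, 2),
  (⟨7, 9, 8, 12⟩, ⟨2, 3, 15, 5⟩, ⟨3, 1, 11, 13⟩, 1),
  (⟨14, 11, 8, 12⟩, ⟨3, 2, 10, 5⟩, ⟨3, 2, 11, 6⟩, 2),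
  (⟨11, 13, 8, 12⟩, ⟨3, 1, 15, 5⟩, ⟨2, 3, 10, 15⟩, 1),
  (⟨6, 15, 8, 12⟩, ⟨1, 3, 10, 5⟩, ⟨1, 3, 9, 7⟩, 2),
  (⟨10, 6, 2, 13⟩, ⟨11, 13, 3, 1⟩, ⟨8, 12, 15, 5⟩, 2),
  (⟨11, 12, 3, 13⟩, ⟨9, 7, 11, 6⟩, ⟨10, 5, 13, 11⟩, 0),
  (⟨14, 4, 6, 13⟩, ⟨14, 9, 8, 4⟩, ⟨6, 13, 8, 4⟩, 0),
  (⟨15, 11, 7, 13⟩, ⟨1, 2, 15, 5⟩, ⟨1, 2, 9, 14⟩, 0),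
  (⟨2, 3, 10, 13⟩, ⟨10, 5, 2, 1⟩, ⟨8, 4, 10, 5⟩, 2),
  (⟨3, 1, 11, 13⟩, ⟨10, 5, 2, 1⟩, ⟨8, 4, 10, 5⟩, 1),
  (⟨6, 9, 14, 13⟩, ⟨10, 5, 2, 1⟩, ⟨8, 4, 10, 5⟩, 0),
  (⟨7, 14, 15, 13⟩, ⟨4, 12, 10, 5⟩, ⟨9, 7, 1, 3⟩, 0),
  (⟨5, 9, 1, 14⟩, ⟨14, 9, 11, 6⟩, ⟨11, 6, 14, 9⟩, 0),
  (⟨12, 11, 3, 14⟩, ⟨6, 11, 3, 1⟩, ⟨8, 12, 13, 6⟩, 2),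
  (⟨4, 13, 5, 14⟩, ⟨3, 1, 15, 5⟩, ⟨2, 3, 10, 15⟩, 0),
  (⟨11, 15, 7, 14⟩, ⟨7, 14, 8, 4⟩, ⟨7, 14, 8, 4⟩, 0),
  (⟨3, 1, 9, 14⟩, ⟨15, 10, 2, 1⟩, ⟨8, 4, 11, 6⟩, 1),
  (⟨2, 3, 11, 14⟩, ⟨15, 10, 2, 1⟩, ⟨8, 4, 11, 6⟩, 2),
  (⟨10, 5, 13, 14⟩, ⟨8, 4, 10, 5⟩, ⟨10, 5, 2, 1⟩, 0),
  (⟨13, 7, 15, 14⟩, ⟨15, 10, 2, 1⟩, ⟨8, 4, 11, 6⟩, 0),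
  (⟨5, 12, 1, 15⟩, ⟨13, 6, 3, 1⟩, ⟨8, 12, 14, 7⟩, 2),
  (⟨12, 6, 2, 15⟩, ⟨7, 14, 11, 6⟩, ⟨9, 7, 15, 10⟩, 0),
  (⟨4, 9, 5, 15⟩, ⟨9, 7, 8, 4⟩, ⟨5, 15, 8, 4⟩, 0),
  (⟨10, 4, 6, 15⟩, ⟨2, 3, 15, 5⟩, ⟨3, 1, 11, 13⟩, 0),
  (⟨2, 3, 9, 15⟩, ⟨5, 15, 2, 1⟩, ⟨8, 4, 9, 7⟩, 2),
  (⟨3, 1, 10, 15⟩, ⟨5, 15, 2, 1⟩, ⟨8, 4, 9, 7⟩, 1),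
  (⟨11, 14, 13, 15⟩, ⟨5, 15, 2, 1⟩, ⟨8, 4, 9, 7⟩, 0),
  (⟨13, 11, 14, 15⟩, ⟨12, 8, 10, 5⟩, ⟨11, 6, 3, 2⟩, 0)]

/-- orbit representatives -/
def rep (k : Nat) : Q :=
  match k with
  | 0 => ⟨9, 6, 2, 1⟩
  | 1 => ⟨9, 14, 3, 1⟩
  | _ => ⟨9, 4, 6, 1⟩

/-- an element (with inverse) normalising the algebra of `rep k`, outside the normaliser of `TH0` -/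
def hel (k : Nat) : Q × Q :=
  match k with
  | 0 => (⟨9, 6, 2, 1⟩, ⟨8, 4, 6, 9⟩)
  | 1 => (⟨9, 10, 4, 1⟩, ⟨8, 11, 4, 9⟩)
  | _ => (⟨9, 4, 6, 1⟩, ⟨8, 6, 2, 9⟩)

/-- words `n₀ h n₁ h … n_m` for the elementary transvections, index `16 k + 4 i + j` -/
def wordTable : List (List (Q × Q)) := [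
  [],
  [(⟨10, 5, 2, 1⟩, ⟨8, 4, 10, 5⟩), (⟨15, 10, 2, 1⟩, ⟨8, 4, 11, 6⟩), (⟨5, 15, 2, 1⟩, ⟨8, 4, 9, 7⟩), (⟨10, 15, 3, 1⟩, ⟨8, 12, 11, 13⟩)],
  [(⟨2, 1, 8, 4⟩, ⟨2, 1, 8, 4⟩), (⟨4, 8, 13, 6⟩, ⟨7, 9, 1, 2⟩)],
  [(⟨3, 2, 8, 4⟩, ⟨3, 2, 8, 4⟩), (⟨4, 8, 10, 15⟩, ⟨13, 6, 1, 2⟩)],
  [(⟨10, 5, 2, 1⟩, ⟨8, 4, 10, 5⟩), (⟨15, 10, 2, 1⟩, ⟨8, 4, 11, 6⟩), (⟨5, 15, 2, 1⟩, ⟨8, 4, 9, 7⟩), (⟨11, 13, 1, 2⟩, ⟨4, 8, 11, 13⟩)],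
  [],
  [(⟨1, 3, 8, 4⟩, ⟨1, 3, 8, 4⟩), (⟨4, 8, 15, 5⟩, ⟨9, 14, 1, 2⟩)],
  [(⟨2, 1, 8, 4⟩, ⟨2, 1, 8, 4⟩), (⟨4, 8, 9, 14⟩, ⟨6, 11, 1, 2⟩)],
  [(⟨8, 4, 2, 1⟩, ⟨8, 4, 2, 1⟩), (⟨1, 2, 7, 9⟩, ⟨1, 2, 7, 9⟩)],
  [(⟨12, 8, 2, 1⟩, ⟨8, 4, 3, 2⟩), (⟨2, 3, 5, 10⟩, ⟨3, 1, 7, 9⟩)],
  [],
  [(⟨10, 5, 2, 1⟩, ⟨8, 4, 10, 5⟩), (⟨15, 10, 2, 1⟩, ⟨8, 4, 11, 6⟩), (⟨5, 15, 2, 1⟩, ⟨8, 4, 9, 7⟩), (⟨10, 5, 1, 3⟩, ⟨4, 12, 6, 13⟩)],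
  [(⟨4, 12, 2, 1⟩, ⟨8, 4, 1, 3⟩), (⟨3, 1, 5, 10⟩, ⟨2, 3, 6, 11⟩)],
  [(⟨8, 4, 2, 1⟩, ⟨8, 4, 2, 1⟩), (⟨1, 2, 6, 11⟩, ⟨1, 2, 6, 11⟩)],
  [(⟨10, 5, 2, 1⟩, ⟨8, 4, 10, 5⟩), (⟨15, 10, 2, 1⟩, ⟨8, 4, 11, 6⟩), (⟨5, 15, 2, 1⟩, ⟨8, 4, 9, 7⟩), (⟨14, 9, 1, 3⟩, ⟨4, 12, 11, 6⟩)],
  [],
  [],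
  [(⟨8, 4, 2, 1⟩, ⟨8, 4, 2, 1⟩), (⟨8, 4, 2, 1⟩, ⟨8, 4, 2, 1⟩), (⟨4, 12, 2, 1⟩, ⟨8, 4, 1, 3⟩), (⟨9, 14, 3, 1⟩, ⟨8, 12, 7, 9⟩)],
  [(⟨1, 3, 10, 5⟩, ⟨1, 3, 9, 7⟩), (⟨3, 1, 13, 6⟩, ⟨2, 3, 11, 13⟩)],
  [(⟨2, 1, 10, 5⟩, ⟨2, 1, 10, 5⟩), (⟨13, 6, 10, 15⟩, ⟨7, 9, 11, 13⟩)],
  [(⟨8, 4, 2, 1⟩, ⟨8, 4, 2, 1⟩), (⟨8, 4, 2, 1⟩, ⟨8, 4, 2, 1⟩), (⟨4, 12, 2, 1⟩, ⟨8, 4, 1, 3⟩), (⟨10, 15, 1, 2⟩, ⟨4, 8, 7, 9⟩)],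
  [],
  [(⟨3, 2, 10, 5⟩, ⟨3, 2, 11, 6⟩), (⟨2, 3, 15, 5⟩, ⟨3, 1, 11, 13⟩)],
  [(⟨1, 3, 10, 5⟩, ⟨1, 3, 9, 7⟩), (⟨15, 5, 9, 14⟩, ⟨9, 14, 11, 13⟩)],
  [(⟨5, 15, 2, 1⟩, ⟨8, 4, 9, 7⟩), (⟨6, 11, 9, 14⟩, ⟨13, 6, 7, 9⟩)],
  [(⟨10, 5, 2, 1⟩, ⟨8, 4, 10, 5⟩), (⟨7, 9, 10, 15⟩, ⟨11, 13, 7, 9⟩)],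
  [],
  [(⟨8, 4, 2, 1⟩, ⟨8, 4, 2, 1⟩), (⟨8, 4, 2, 1⟩, ⟨8, 4, 2, 1⟩), (⟨4, 12, 2, 1⟩, ⟨8, 4, 1, 3⟩), (⟨11, 6, 1, 3⟩, ⟨4, 12, 14, 9⟩)],
  [(⟨15, 10, 2, 1⟩, ⟨8, 4, 11, 6⟩), (⟨6, 11, 10, 15⟩, ⟨6, 11, 10, 15⟩)],
  [(⟨5, 15, 2, 1⟩, ⟨8, 4, 9, 7⟩), (⟨7, 9, 11, 13⟩, ⟨13, 6, 10, 15⟩)],
  [(⟨8, 4, 2, 1⟩, ⟨8, 4, 2, 1⟩), (⟨8, 4, 2, 1⟩, ⟨8, 4, 2, 1⟩), (⟨4, 12, 2, 1⟩, ⟨8, 4, 1, 3⟩), (⟨15, 10, 1, 3⟩, ⟨4, 12, 7, 14⟩)],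
  [],
  [],
  [(⟨8, 4, 2, 1⟩, ⟨8, 4, 2, 1⟩), (⟨12, 8, 2, 1⟩, ⟨8, 4, 3, 2⟩), (⟨12, 8, 2, 1⟩, ⟨8, 4, 3, 2⟩), (⟨1, 3, 4, 12⟩, ⟨1, 3, 4, 12⟩)],
  [(⟨3, 2, 10, 5⟩, ⟨3, 2, 11, 6⟩), (⟨6, 13, 2, 1⟩, ⟨8, 4, 5, 15⟩)],
  [(⟨1, 3, 10, 5⟩, ⟨1, 3, 9, 7⟩), (⟨15, 10, 11, 6⟩, ⟨6, 13, 5, 15⟩)],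
  [(⟨8, 4, 2, 1⟩, ⟨8, 4, 2, 1⟩), (⟨12, 8, 2, 1⟩, ⟨8, 4, 3, 2⟩), (⟨12, 8, 2, 1⟩, ⟨8, 4, 3, 2⟩), (⟨2, 1, 4, 12⟩, ⟨2, 1, 4, 12⟩)],
  [],
  [(⟨2, 1, 10, 5⟩, ⟨2, 1, 10, 5⟩), (⟨5, 15, 1, 3⟩, ⟨4, 12, 5, 15⟩)],
  [(⟨3, 2, 10, 5⟩, ⟨3, 2, 11, 6⟩), (⟨14, 9, 10, 5⟩, ⟨13, 11, 5, 15⟩)],
  [(⟨15, 10, 2, 1⟩, ⟨8, 4, 11, 6⟩), (⟨7, 14, 5, 15⟩, ⟨10, 5, 14, 9⟩)],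
  [(⟨5, 15, 2, 1⟩, ⟨8, 4, 9, 7⟩), (⟨5, 15, 6, 13⟩, ⟨15, 10, 14, 9⟩)],
  [],
  [(⟨8, 4, 2, 1⟩, ⟨8, 4, 2, 1⟩), (⟨12, 8, 2, 1⟩, ⟨8, 4, 3, 2⟩), (⟨12, 8, 2, 1⟩, ⟨8, 4, 3, 2⟩), (⟨3, 1, 12, 4⟩, ⟨2, 3, 8, 12⟩)],
  [(⟨10, 5, 2, 1⟩, ⟨8, 4, 10, 5⟩), (⟨5, 15, 4, 12⟩, ⟨5, 15, 4, 12⟩)],
  [(⟨15, 10, 2, 1⟩, ⟨8, 4, 11, 6⟩), (⟨6, 13, 4, 12⟩, ⟨10, 5, 4, 12⟩)],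
  [(⟨8, 4, 2, 1⟩, ⟨8, 4, 2, 1⟩), (⟨12, 8, 2, 1⟩, ⟨8, 4, 3, 2⟩), (⟨12, 8, 2, 1⟩, ⟨8, 4, 3, 2⟩), (⟨3, 1, 4, 8⟩, ⟨2, 3, 4, 8⟩)],
  []]

end Cfsg.Agent.Lib.Helper6.C3lLeaf
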